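import Groth.Agent.Lib.TwistContract.Basic
import Mathlib.AlgebraicGeometry.Morphisms.QuasiFinite
import Mathlib.AlgebraicGeometry.Morphisms.Immersion
import Mathlib.AlgebraicGeometry.Noetherian
import Mathlib.RingTheory.Nakayama

/-!
Fixed points of a correspondence twisted by a big power of Frobenius are isolated.
-/

set_option autoImplicit false
set_option linter.style.haveILetI false

noncomputable section

universe u

open AlgebraicGeometry CategoryTheory TopologicalSpace IsLocalRing

namespace Groth.Agent.Lib.FrobFix.Discrete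

open Groth.Agent.Lib.TwistContract.Basic

theorem map_maximalIdeal_congr {X Y : Scheme.{u}} {f g : X ⟶ Y} (h : f = g) (z : X) :
    (maximalIdeal (Y.presheaf.stalk (f z))).map (f.stalkMap z).hom =
      (maximalIdeal (Y.presheaf.stalk (g z))).map (g.stalkMap z).hom := by
  subst h; rfl

theorem map_comp_stalkMap {X Y Z : Scheme.{u}} (f : X ⟶ Y) (g : Y ⟶ Z) (z : X) :
    (maximalIdeal (Z.presheaf.stalk ((f ≫ g) z))).map ((f ≫ g).stalkMap z).hom =
      ((maximalIdeal (Z.presheaf.stalk (g (f z)))).map (g.stalkMap (f z)).hom).map (f.stalkMap z).hom := by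
  rw [Ideal.map_map, ← CommRingCat.hom_comp, ← Scheme.Hom.stalkMap_comp]
  rfl

/-- On a Noetherian space, a closed point without proper generisations is open. -/
theorem isOpen_singleton {α : Type u} [TopologicalSpace α] [NoetherianSpace α] [QuasiSober α] [T0Space α]
    {z : α} (hz : IsClosed ({z} : Set α)) (hgen : ∀ w, w ⤳ z → w = z) : IsOpen ({z} : Set α) := by
  have hfin : (genericPoints α).Finite := by
    haveI : Finite (irreducibleComponents α) := NoetherianSpace.finite_irreducibleComponents.to_subtype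
    exact Set.finite_coe_iff.1 (Finite.of_injective (genericPoints.component (α := α))
      genericPoints.component_injective)
  have h : ({z} : Set α)ᶜ = ⋃ η ∈ genericPoints α \ {z}, closure {η} := by
    ext w
    simp only [Set.mem_compl_iff, Set.mem_singleton_iff, Set.mem_iUnion, Set.mem_sdiff, exists_prop]
    constructor
    · intro hw
      obtain ⟨Z, hZ, hwZ⟩ := exists_mem_irreducibleComponents_subset_of_isIrreducible _
        (isIrreducible_singleton (x := w))
      obtain ⟨η, hη⟩ := QuasiSober.sober hZ.1 (isClosed_of_mem_irreducibleComponents Z hZ)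
      have hw' : w ∈ closure ({η} : Set α) := hη.def.symm ▸ hwZ rfl
      refine ⟨η, ⟨by show closure ({η} : Set α) ∈ irreducibleComponents α; rw [hη.def]; exact hZ, ?_⟩, hw'⟩
      rintro rfl
      rw [hz.closure_eq] at hw'
      exact hw hw'
    · rintro ⟨η, ⟨-, hη⟩, hw⟩ rfl
      exact hη (hgen η (specializes_iff_mem_closure.2 hw))
  rw [← isClosed_compl_iff, h]
  exact hfin.sdiff.isClosed_biUnion fun η _ => isClosed_closure

theorem eq_of_specializes_of_pow_eq_bot {F : Scheme.{u}} {z w : F} (hw : w ⤳ z) (d : ℕ)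
    (h : maximalIdeal (F.presheaf.stalk z) ^ d = ⊥) : w = z := by
  obtain ⟨q, hq⟩ : w ∈ Set.range (F.fromSpecStalk z) := by rw [Scheme.range_fromSpecStalk]; exact hw
  have hq' : q = closedPoint (F.presheaf.stalk z) :=
    PrimeSpectrum.ext ((IsLocalRing.le_maximalIdeal q.2.ne_top).antisymm
      (q.2.le_of_pow_le (h.le.trans bot_le)))
  rw [← hq, hq']
  exact Scheme.fromSpecStalk_closedPoint

theorem pow_maximalIdeal_eq_bot {R : Type u} [CommRing R] [IsLocalRing R] [IsNoetherianRing R] {d : ℕ}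
    (h : maximalIdeal R ^ d ≤ maximalIdeal R ^ (d + 1)) : maximalIdeal R ^ d = ⊥ :=
  Submodule.eq_bot_of_le_smul_of_le_jacobson_bot (maximalIdeal R) _ (IsNoetherian.noetherian _)
    (h.trans (by rw [pow_succ', smul_eq_mul]))
    (le_of_eq (IsLocalRing.jacobson_eq_maximalIdeal ⊥ bot_ne_top).symm)

/-- The stalk map of a power of Frobenius lands in the corresponding power of the maximal ideal. -/
theorem map_stalkMap_FN_le (p : ℕ) [Fact p.Prime] {C : Scheme.{u}} [FrobSch.IsCharP C p] (N : ℕ) (y : C) :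
    (maximalIdeal (C.presheaf.stalk (FN p C N y))).map ((FN p C N).stalkMap y).hom ≤
      maximalIdeal (C.presheaf.stalk y) ^ p ^ N := by
  rw [Ideal.map_le_iff_le_comap]
  intro a ha
  obtain ⟨V, hV, s, rfl⟩ := C.presheaf.exists_germ_eq a
  have hy : y ∈ V := by have h := hV; rwa [FN_apply] at h
  have hm : C.presheaf.germ V y hy s ∈ maximalIdeal (C.presheaf.stalk y) := by
    rw [IsLocalRing.mem_maximalIdeal, mem_nonunits_iff, ← Scheme.mem_basicOpen]
    rw [IsLocalRing.mem_maximalIdeal, mem_nonunits_iff, ← Scheme.mem_basicOpen] at ha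
    rwa [FN_apply] at ha
  rw [Ideal.mem_comap]
  have e : ((FN p C N).stalkMap y).hom (C.presheaf.germ V (FN p C N y) hV s) =
      C.presheaf.germ V y hy s ^ p ^ N := by
    refine (Scheme.Hom.germ_stalkMap_apply (FN p C N) V y hV s).trans ?_
    rw [← map_pow, ← appLE_FN p N V (le_preimage p N V) s]
    exact (TopCat.Presheaf.germ_res_apply C.presheaf (homOfLE (le_preimage p N V)) y hy _).symm
  rw [e]
  exact Ideal.pow_mem_pow hm _

/-- The bound on ramification, at a stalk. -/
theorem pow_maximalIdeal_le {C X : Scheme.{u}} (c : C ⟶ X) [LocallyQuasiFinite c] (y : C)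
    (hx : IsClosed ({c y} : Set X)) (d : ℕ)
    (hd : ((Scheme.IdealSheafData.vanishingIdeal ⟨{c y}, hx⟩).comap c).radical ^ d ≤
      (Scheme.IdealSheafData.vanishingIdeal ⟨{c y}, hx⟩).comap c) :
    maximalIdeal (C.presheaf.stalk y) ^ d ≤
      (maximalIdeal (X.presheaf.stalk (c y))).map (c.stalkMap y).hom := by
  let I : X.IdealSheafData := Scheme.IdealSheafData.vanishingIdeal ⟨{c y}, hx⟩
  obtain ⟨O, hO, hOy⟩ := isDiscrete_iff_forall_mem_exists_isOpen.1 (c.isDiscrete_preimage_singleton (c y))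
    y rfl
  have hyO : y ∈ O := (hOy.symm.le rfl).1
  obtain ⟨V, W, hxV, hyW, -, hWO, hle⟩ := Ideal.Comap.exists_affine_le_preimage c y (W := ⟨O, hO⟩) hyO
    (U := ⊤) trivial
  haveI := W.2.isLocalization_stalk ⟨y, hyW⟩
  let _ : Algebra Γ(C, W.1) (C.presheaf.stalk y) := (C.presheaf.germ W.1 y hyW).hom.toAlgebra
  set P := (W.2.primeIdealOf ⟨y, hyW⟩).asIdeal with hP
  have hmax : maximalIdeal (C.presheaf.stalk y) = P.map (C.presheaf.germ W.1 y hyW).hom :=
    (IsLocalization.AtPrime.map_eq_maximalIdeal P (C.presheaf.stalk y)).symm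
  have hsuppI : ∀ w, w ∈ (I.comap c).support ↔ c w = c y := fun w => by
    rw [Scheme.IdealSheafData.support_comap]
    show c w ∈ I.support ↔ _
    rw [← SetLike.mem_coe, Scheme.IdealSheafData.coe_support_vanishingIdeal]
    rfl
  have hPle : P ≤ ((I.comap c).radical).ideal W := by
    rw [Scheme.IdealSheafData.radical_ideal, Ideal.radical_eq_sInf]
    refine le_sInf fun Q hQ => ?_
    obtain ⟨hQI, hQp⟩ := hQ
    let q : PrimeSpectrum Γ(C, W.1) := ⟨Q, hQp⟩
    have hwW : W.2.fromSpec q ∈ W.1 := W.2.range_fromSpec.le ⟨q, rfl⟩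
    have hw : W.2.fromSpec q ∈ (I.comap c).support := by
      rw [Scheme.IdealSheafData.mem_support_iff_of_mem hwW]
      have h1 : q ∈ W.2.fromSpec ⁻¹' (C.zeroLocus (U := W.1) ((I.comap c).ideal W)) := by
        rw [W.2.fromSpec_preimage_zeroLocus]
        exact hQI
      exact h1
    have hwy : W.2.fromSpec q = y := hOy.le ⟨hWO hwW, (hsuppI _).1 hw⟩
    haveI := W.2.isOpenImmersion_fromSpec
    have h2 : q = W.2.primeIdealOf ⟨y, hyW⟩ :=
      W.2.fromSpec.isOpenEmbedding.injective (hwy.trans (W.2.fromSpec_primeIdealOf ⟨y, hyW⟩).symm)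
    rw [hP, ← h2]
  have hgI : (I.ideal V).map (X.presheaf.germ V.1 (c y) hxV).hom ≤
      maximalIdeal (X.presheaf.stalk (c y)) := by
    rw [Ideal.map_le_iff_le_comap]
    intro s hs
    rw [Ideal.mem_comap, IsLocalRing.mem_maximalIdeal, mem_nonunits_iff]
    erw [← Scheme.mem_basicOpen _ s (c y) hxV]
    have h1 : c y ∈ I.support := by
      rw [← SetLike.mem_coe, Scheme.IdealSheafData.coe_support_vanishingIdeal]; rfl
    exact (Scheme.mem_zeroLocus_iff X _ _).1 ((Scheme.IdealSheafData.mem_support_iff_of_mem hxV).1 h1) s hs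
  rw [hmax, ← Ideal.map_pow]
  refine (Ideal.map_mono (J := (I.comap c).ideal W) ?_).trans (le_trans (le_of_eq ?_) (Ideal.map_mono hgI))
  · refine (Ideal.pow_right_mono hPle d).trans ((le_of_eq ?_).trans (hd W))
    rw [Scheme.IdealSheafData.ideal_pow, Pi.pow_apply]
  · rw [Ideal.Comap.ideal_comap c _ V W hle, Ideal.map_map, Ideal.map_map, ← CommRingCat.hom_comp,
      ← CommRingCat.hom_comp, Scheme.Hom.germ_stalkMap]
    congr 2
    simp [Scheme.Hom.appLE, TopCat.Presheaf.germ_res]

theorem isolated {p : ℕ} [Fact p.Prime] {C X F : Scheme.{u}} [FrobSch.IsCharP C p] [IsLocallyNoetherian F]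
    (N d : ℕ) (hN : d < p ^ N) (g c : C ⟶ X) [LocallyQuasiFinite c] (i : F ⟶ C) [IsPreimmersion i]
    (heq : i ≫ FN p C N ≫ g = i ≫ c)
    (hd : ∀ (x : X) (hx : IsClosed ({x} : Set X)),
      ((Scheme.IdealSheafData.vanishingIdeal ⟨{x}, hx⟩).comap c).radical ^ d ≤
        (Scheme.IdealSheafData.vanishingIdeal ⟨{x}, hx⟩).comap c)
    (z : F) (hcl : IsClosed ({c (i z)} : Set X)) (w : F) (hw : w ⤳ z) : w = z := by
  refine eq_of_specializes_of_pow_eq_bot hw d (pow_maximalIdeal_eq_bot ?_)
  have hM : (maximalIdeal (C.presheaf.stalk (i z))).map (i.stalkMap z).hom =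
      maximalIdeal (F.presheaf.stalk z) :=
    IsLocalRing.map_maximalIdeal_of_surjective _ (i.stalkMap_surjective z)
  have h1 := Ideal.map_mono (f := (i.stalkMap z).hom) (pow_maximalIdeal_le c (i z) hcl d (hd _ hcl))
  rw [Ideal.map_pow, hM, ← map_comp_stalkMap, ← map_maximalIdeal_congr heq, map_comp_stalkMap,
    map_comp_stalkMap] at h1
  refine h1.trans ((Ideal.map_mono ((Ideal.map_mono (IsLocalRing.map_maximalIdeal_le _)).trans
    (map_stalkMap_FN_le p N (i z)))).trans ?_)
  rw [Ideal.map_pow, hM]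
  exact Ideal.pow_le_pow_right hN

end Groth.Agent.Lib.FrobFix.Discrete
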